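import Cfsg.Agent.Lib.Srg77.Local
import Cfsg.Prelude.Def_Sporadic_a

/-!
# The 22 cocliques of size 21 of a strongly regular graph with parameters (77, 16, 0, 4)

`exists_steiner`: the graph is the block graph of a Steiner system S(3, 6, 22).
-/

set_option autoImplicit false

namespace Cfsg.Agent.Srg77

open Finset

variable {V : Type*} [Fintype V] [DecidableEq V] {G : SimpleGraph V} [DecidableRel G.Adj]

/-- Independence and size 21. -/
def IsBig (G : SimpleGraph V) (C : Finset V) : Prop :=
  C.card = 21 ∧ ∀ u ∈ C, ∀ v ∈ C, ¬ G.Adj u v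

variable (hG : G.IsSRGWith 77 16 0 4)
include hG

/-- A vertex outside a coclique of size 21 has six neighbours in it. -/
theorem card_nbr_big {C : Finset V} (hC : IsBig G C) {y : V} (hy : y ∉ C) :
    (C.filter fun c => G.Adj y c).card = 6 := by
  set d : V → ℤ := fun y => ∑ c ∈ C, if G.Adj y c then (1 : ℤ) else 0 with hd
  have hd0 : ∀ y ∈ C, d y = 0 := fun y hy => sum_eq_zero fun c hc => if_neg (hC.2 y hy c hc)
  have h1 : ∑ y, d y = 336 := by
    rw [hd, sum_comm, sum_congr rfl fun c _ => ?_, sum_const, hC.1]
    rotate_left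
    · exact (16 : ℤ)
    · rw [sum_boole]
      norm_cast
      rw [← card_nbr hG c]
      simp [G.adj_comm]
    rfl
  have h2 : ∑ y, d y ^ 2 = 2016 := by
    have e : ∀ y, d y ^ 2 = ∑ c ∈ C, ∑ c' ∈ C,
        if G.Adj y c ∧ G.Adj y c' then (1 : ℤ) else 0 := fun y => by
      simp only [hd, sq, sum_mul, mul_sum]
      refine sum_congr rfl fun c _ => sum_congr rfl fun c' _ => ?_
      split_ifs <;> simp_all
    have hin : ∀ c ∈ C, ∑ y, ∑ c' ∈ C, (if G.Adj y c ∧ G.Adj y c' then (1 : ℤ) else 0) = 96 := by
      intro c hc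
      have hcc : ∀ c' ∈ C, ∑ y, (if G.Adj y c ∧ G.Adj y c' then (1 : ℤ) else 0) =
          4 + if c = c' then 12 else 0 := by
        intro c' hc'
        have h := card_com hG c c'
        rw [if_neg (hC.2 c hc c' hc')] at h
        have e : (univ.filter fun y => G.Adj y c ∧ G.Adj y c') = com G c c' := by
          ext u; simp [com, G.adj_comm]
        rw [sum_boole, e, h]
        split_ifs <;> rfl
      rw [sum_comm, sum_congr rfl hcc, sum_add_distrib, sum_const, hC.1, sum_ite_eq, if_pos hc]
      rfl
    rw [sum_congr rfl fun y _ => e y, sum_comm, sum_congr rfl hin, sum_const, hC.1]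
    rfl
  have h0 : ∑ y ∈ univ \ C, (d y - 6) ^ 2 = 0 := by
    have e : ∀ y, (d y - 6) ^ 2 = d y ^ 2 - 12 * d y + 36 := fun y => by ring
    have a1 : ∑ y ∈ univ \ C, d y = 336 := by
      rw [← h1, ← sum_sdiff (subset_univ C), sum_eq_zero hd0, add_zero]
    have a2 : ∑ y ∈ univ \ C, d y ^ 2 = 2016 := by
      rw [← h2, ← sum_sdiff (subset_univ C),
        sum_eq_zero (s := C) (fun y hy => by rw [hd0 y hy]; norm_num), add_zero]
    rw [sum_congr rfl fun y _ => e y, sum_add_distrib, sum_sub_distrib, ← mul_sum, a1, a2,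
      sum_const, card_univ_diff, hG.card, hC.1]
    norm_num
  have := (sum_eq_zero_iff_of_nonneg fun y _ => sq_nonneg _).1 h0 y (by simp [hy])
  have := sq_eq_zero_iff.1 this
  simp only [hd, sum_boole] at this
  omega

/-- The far part of a coclique through `x`: it is a union of five pairwise related classes. -/
theorem big_far {C : Finset V} (hC : IsBig G C) {x : V} (hx : x ∈ C) :
    ((univ : Finset (Far G x)).filter fun t => t.1 ∈ C).card = 20 ∧
    ∀ u : Far G x, u.1 ∈ C →
      (∀ v : Far G x, v.1 ∈ C → gram G u v ≠ 0) ∧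
      (∀ v : Far G x, gram G u v = 2 → v.1 ∈ C) := by
  set D : Finset (Far G x) := univ.filter fun t => t.1 ∈ C with hD
  have hD20 : D.card = 20 := by
    rw [show 20 = (C.erase x).card by rw [card_erase_of_mem hx, hC.1],
      ← card_map ⟨Subtype.val, Subtype.val_injective⟩]
    congr 1
    ext t
    rw [mem_map, mem_erase]
    constructor
    · rintro ⟨a, ha, rfl⟩
      exact ⟨a.2.1, (mem_filter.1 ha).2⟩
    · rintro ⟨a, b⟩
      exact ⟨⟨t, a, hC.2 x hx t b⟩, by simp [hD, b], rfl⟩
  refine ⟨hD20, fun u hu => ?_⟩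
  have huD : u ∈ D := by simp [hD, hu]
  -- common neighbours with the other members
  have hk : ∑ t ∈ D, kk G u t = 20 := by
    simp only [kk_eq_sum]
    rw [sum_comm, sum_congr rfl fun p hp => ?_, sum_const, card_blk hG]
    rotate_left
    · exact (5 : ℤ)
    · have hp' := (mem_com.1 hp).1
      have h6 := card_nbr_big hG hC (y := p) fun h => hC.2 x hx p h hp'
      have e : C.filter (fun c => G.Adj p c) =
          insert x ((C.filter fun c => G.Adj p c).erase x) :=
        (insert_erase (by simp [hx, hp'.symm])).symm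
      have h5 : ((C.filter fun c => G.Adj p c).erase x).card = 5 := by
        rw [card_erase_of_mem (by simp [hx, hp'.symm]), h6]
      rw [sum_boole, show (5 : ℤ) = ((5 : ℕ) : ℤ) from rfl, ← h5,
        ← card_map ⟨Subtype.val, Subtype.val_injective⟩]
      congr 2
      ext t
      rw [mem_map, mem_erase, mem_filter]
      constructor
      · rintro ⟨a, ha, rfl⟩
        simp only [hD, mem_filter, mem_univ, true_and] at ha
        exact ⟨a.2.1, ha.1, ha.2.symm⟩
      · rintro ⟨a, b, c⟩
        exact ⟨⟨t, a, hC.2 x hx t b⟩, by simp [hD, b, c.symm], rfl⟩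
    rfl
  have hg : ∑ t ∈ D, gram G u t = 24 := by
    have e : ∀ t ∈ D, gram G u t = 2 + (if u = t then 4 else 0) - kk G u t := by
      intro t ht
      simp only [hD, mem_filter] at ht
      simp [gram, adj, hC.2 u.1 hu t.1 ht.2]
    rw [sum_congr rfl e, sum_sub_distrib, sum_add_distrib, sum_const, hD20, hk, sum_ite_eq,
      if_pos huD]
    norm_num
  have hsplit : ∀ t, gram G u t + (if gram G u t = 0 then (1 : ℤ) else 0) =
      1 + (if gram G u t = 2 then (1 : ℤ) else 0) := fun t => by
    have h1 := gram_nonneg hG u t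
    have h2 := gram_le_two hG u t
    interval_cases h : gram G u t <;> simp
  have hs := sum_congr (s₁ := D) rfl fun t _ => hsplit t
  rw [sum_add_distrib, sum_add_distrib, hg, sum_const, hD20, sum_boole, sum_boole] at hs
  have hsub : (D.filter fun t => gram G u t = 2) ⊆ univ.filter fun t => gram G u t = 2 :=
    filter_subset_filter _ (subset_univ D)
  have hle := card_le_card hsub
  rw [card_two hG] at hle
  simp only [nsmul_eq_mul, Nat.cast_ofNat, mul_one] at hs
  have hn0 : (D.filter fun t => gram G u t = 0).card = 0 := by omega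
  have hn2 : (D.filter fun t => gram G u t = 2).card = 4 := by omega
  refine ⟨fun v hv h0 => ?_, fun v hv => ?_⟩
  · rw [card_eq_zero] at hn0
    exact notMem_empty v (hn0 ▸ by simp [hD, hv, h0])
  · have := eq_of_subset_of_card_le hsub (by rw [card_two hG, hn2])
    have hv' : v ∈ D.filter fun t => gram G u t = 2 := this ▸ by simp [hv]
    exact (mem_filter.1 (mem_filter.1 hv').1).2

/-- Two related far vertices lie with `x` in exactly one coclique of size 21. -/
theorem existsUnique_big {x : V} (u v : Far G x) (h : gram G u v = 1) :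
    ∃! C : Finset V, IsBig G C ∧ x ∈ C ∧ u.1 ∈ C ∧ v.1 ∈ C := by
  classical
  let s : Setoid (Far G x) :=
    ⟨fun a b => gram G a b = 2,
      ⟨fun a => gram_self hG a, fun {a b} h => by rw [gram_comm, h],
        fun {a b c} h1 h2 => by rw [gram_row_eq hG h1, h2]⟩⟩
  let W := Quotient s
  let π : Far G x → W := Quotient.mk s
  have hπ : ∀ a b, π a = π b ↔ gram G a b = 2 := fun a b => Quotient.eq (r := s)
  let g : W → W → ℤ := Quotient.lift₂ (fun a b => gram G a b) fun a b a' b' ha hb => by
    rw [gram_row_eq hG ha b, gram_comm, gram_row_eq hG hb a', gram_comm]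
  have hg : ∀ a b, g (π a) (π b) = gram G a b := fun a b => rfl
  have hfib : ∀ P : W → Prop, ∀ [DecidablePred P],
      ((univ : Finset (Far G x)).filter fun a => P (π a)).card = 4 * (univ.filter P).card := by
    intro P _
    rw [card_eq_sum_card_fiberwise (f := π) (t := univ.filter P) fun a ha => by
      simpa using ha]
    rw [sum_congr rfl (g := fun _ => 4) fun c hc => ?_, sum_const, smul_eq_mul, mul_comm]
    obtain ⟨a, rfl⟩ := Quotient.exists_rep c
    rw [← card_two hG a, filter_filter]
    congr 1
    ext b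
    simp only [mem_filter, mem_univ, true_and] at hc ⊢
    constructor
    · rintro ⟨-, hb⟩
      rw [gram_comm]
      exact (hπ b a).1 hb
    · intro hb
      have hab : π b = π a := (hπ b a).2 (by rw [gram_comm, hb])
      exact ⟨hab ▸ hc, hab⟩
  let T : SimpleGraph W :=
    { Adj := fun c d => g c d = 0
      symm := ⟨fun c d => Quotient.inductionOn₂ c d fun a b (h : gram G a b = 0) =>
        show gram G b a = 0 by rw [gram_comm, h]⟩
      loopless := ⟨fun c => Quotient.inductionOn c fun a (h : gram G a a = 0) => by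
        rw [gram_self hG] at h; norm_num at h⟩ }
  have hTadj : ∀ a b, T.Adj (π a) (π b) ↔ gram G a b = 0 := fun a b => Iff.rfl
  have hW : Fintype.card W = 15 := by
    have := hfib fun _ => True
    rw [filter_true_of_mem (fun _ _ => trivial), filter_true_of_mem (fun _ _ => trivial), card_univ,
      card_univ, card_far hG] at this
    omega
  have hT : T.IsSRGWith 15 6 1 3 := by
    have key : ∀ a b, (univ.filter fun c => T.Adj (π a) c ∧ T.Adj (π b) c).card * 4 =
        (univ.filter fun t => gram G a t = 0 ∧ gram G b t = 0).card := fun a b => by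
      rw [mul_comm, ← hfib fun c => T.Adj (π a) c ∧ T.Adj (π b) c]
      simp only [hTadj]
    have cn : ∀ c d : W, Fintype.card (T.commonNeighbors c d) =
        (univ.filter fun e => T.Adj c e ∧ T.Adj d e).card := fun c d =>
      Fintype.card_of_subtype _ fun e => by simp [SimpleGraph.mem_commonNeighbors]
    refine ⟨hW, fun c => ?_, fun c d hcd => ?_, fun {c d} hne hnadj => ?_⟩
    · obtain ⟨a, rfl⟩ := Quotient.exists_rep c
      have h1 := key a a
      have h2 := card_zero_zero hG a a
      rw [gram_self hG] at h2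
      simp only [and_self] at h1 h2
      rw [← SimpleGraph.card_neighborFinset_eq_degree]
      have e : T.neighborFinset (π a) = univ.filter fun c => T.Adj (π a) c := by ext; simp
      rw [show (⟦a⟧ : W) = π a from rfl, e]
      norm_num at h2
      omega
    · obtain ⟨a, rfl⟩ := Quotient.exists_rep c
      obtain ⟨b, rfl⟩ := Quotient.exists_rep d
      have h1 := key a b
      have h2 := card_zero_zero hG a b
      rw [(hTadj a b).1 hcd] at h2
      norm_num at h2
      rw [cn]
      simp only [π] at h1
      omega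
    · obtain ⟨a, rfl⟩ := Quotient.exists_rep c
      obtain ⟨b, rfl⟩ := Quotient.exists_rep d
      have h1 := key a b
      have h2 := card_zero_zero hG a b
      have h3 : gram G a b = 1 := by
        have e1 := gram_nonneg hG a b
        have e2 := gram_le_two hG a b
        have e3 : gram G a b ≠ 0 := hnadj
        have e4 : gram G a b ≠ 2 := fun e => hne ((hπ a b).2 e)
        omega
      rw [h3] at h2
      norm_num at h2
      rw [cn]
      simp only [π] at h1
      omega
  have huv : π u ≠ π v := fun e => by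
    rw [(hπ u v).1 e] at h; norm_num at h
  obtain ⟨K, ⟨hK5, huK, hvK, hKi⟩, hKu⟩ :=
    existsUnique_ovoid hT huv (show ¬ T.Adj (π u) (π v) by rw [hTadj, h]; norm_num)
  refine ⟨insert x (((univ : Finset (Far G x)).filter fun a => π a ∈ K).map
    ⟨Subtype.val, Subtype.val_injective⟩), ⟨⟨?_, ?_⟩, mem_insert_self _ _, ?_, ?_⟩, ?_⟩
  · rw [card_insert_of_notMem, card_map, hfib (fun c => c ∈ K), filter_univ_mem, hK5]
    simp only [mem_map, Function.Embedding.coeFn_mk, not_exists, not_and]
    exact fun a _ e => a.2.1 e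
  · simp only [mem_insert, mem_map, mem_filter, mem_univ, true_and, Function.Embedding.coeFn_mk]
    rintro a (rfl | ⟨a, ha, rfl⟩) b (rfl | ⟨b, hb, rfl⟩)
    · exact G.loopless.irrefl _
    · exact b.2.2
    · exact fun e => a.2.2 e.symm
    · exact fun e => hKi _ ha _ hb ((hTadj a b).2 (gram_zero_of_adj hG e))
  · exact mem_insert_of_mem (mem_map.2 ⟨u, by simp [huK], rfl⟩)
  · exact mem_insert_of_mem (mem_map.2 ⟨v, by simp [hvK], rfl⟩)
  rintro C ⟨hC, hxC, huC, hvC⟩
  obtain ⟨hD, hDp⟩ := big_far hG hC hxC
  set K' : Finset W := ((univ : Finset (Far G x)).filter fun t => t.1 ∈ C).image π with hK'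
  have hpre : ∀ a, π a ∈ K' ↔ a.1 ∈ C := by
    intro a
    simp only [hK', mem_image, mem_filter, mem_univ, true_and]
    exact ⟨fun ⟨b, hb, e⟩ => (hDp b hb).2 a ((hπ b a).1 e), fun ha => ⟨a, ha, rfl⟩⟩
  have hK'5 : K'.card = 5 := by
    have := hfib fun c => c ∈ K'
    simp only [hpre, filter_univ_mem] at this
    omega
  have hKK : K' = K := hKu K' ⟨hK'5, (hpre u).2 huC, (hpre v).2 hvC, by
    simp only [hK', mem_image, mem_filter, mem_univ, true_and]
    rintro c ⟨a, ha, rfl⟩ d ⟨b, hb, rfl⟩ e
    exact (hDp a ha).1 b hb ((hTadj a b).1 e)⟩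
  ext t
  simp only [mem_insert, mem_map, mem_filter, mem_univ, true_and, Function.Embedding.coeFn_mk,
    ← hKK, hpre]
  constructor
  · intro ht
    by_cases e : t = x
    · exact Or.inl e
    · exact Or.inr ⟨⟨t, e, hC.2 x hxC t ht⟩, ht, rfl⟩
  · rintro (rfl | ⟨a, ha, rfl⟩)
    · exact hxC
    · exact ha

/-- Two non-adjacent vertices lie in exactly two cocliques of size 21. -/
theorem card_big_two [DecidablePred (IsBig G)] {x : V} (y : Far G x) :
    (univ.filter fun C : Finset V => IsBig G C ∧ x ∈ C ∧ y.1 ∈ C).card = 2 := by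
  classical
  set S := univ.filter fun C : Finset V => IsBig G C ∧ x ∈ C ∧ y.1 ∈ C with hS
  have hmS : ∀ C, C ∈ S ↔ IsBig G C ∧ x ∈ C ∧ y.1 ∈ C := fun C => by simp [hS]
  have h1 : ∀ v ∈ univ.filter (fun t => gram G y t = 1), (S.filter fun C => v.1 ∈ C).card = 1 := by
    intro v hv
    obtain ⟨C, hC, hu⟩ := existsUnique_big hG y v (mem_filter.1 hv).2
    refine card_eq_one.2 ⟨C, ?_⟩
    ext C'
    simp only [mem_filter, hmS, mem_singleton]
    exact ⟨fun h => hu C' ⟨h.1.1, h.1.2.1, h.1.2.2, h.2⟩,
      fun e => e ▸ ⟨⟨hC.1, hC.2.1, hC.2.2.1⟩, hC.2.2.2⟩⟩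
  have h2 : ∀ C ∈ S, ((univ.filter fun t => gram G y t = 1).filter fun v => v.1 ∈ C).card = 16 := by
    intro C hC
    rw [hmS] at hC
    obtain ⟨hD, hDp⟩ := big_far hG hC.1 hC.2.1
    obtain ⟨h0, h2⟩ := hDp y hC.2.2
    have e : ((univ : Finset (Far G x)).filter fun t => t.1 ∈ C) =
        ((univ.filter fun t => gram G y t = 1).filter fun v => v.1 ∈ C) ∪
          (univ.filter fun t => gram G y t = 2) := by
      ext t
      simp only [mem_filter, mem_univ, true_and, mem_union]
      refine ⟨fun ht => ?_, ?_⟩
      · have e1 := gram_nonneg hG y t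
        have e2 := gram_le_two hG y t
        have e3 := h0 t ht
        rcases (show gram G y t = 1 ∨ gram G y t = 2 by omega) with e | e
        · exact Or.inl ⟨e, ht⟩
        · exact Or.inr e
      · rintro (⟨-, ht⟩ | ht)
        · exact ht
        · exact h2 t ht
    rw [e, card_union_of_disjoint, card_two hG] at hD
    · omega
    · rw [Finset.disjoint_left]
      intro t ht ht'
      simp only [mem_filter, mem_univ, true_and] at ht ht'
      omega
  have h3 := sum_card_bipartiteAbove_eq_sum_card_bipartiteBelow (s := S)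
    (t := univ.filter fun t => gram G y t = 1) (fun (C : Finset V) (v : Far G x) => v.1 ∈ C)
  simp only [bipartiteAbove, bipartiteBelow] at h3
  rw [sum_congr rfl h1, sum_congr rfl h2, sum_const, sum_const, card_one hG] at h3
  simp only [smul_eq_mul] at h3
  omega

/-- Each vertex lies in six cocliques of size 21. -/
theorem card_big_one [DecidablePred (IsBig G)] (x : V) :
    (univ.filter fun C : Finset V => IsBig G C ∧ x ∈ C).card = 6 := by
  classical
  set S := univ.filter fun C : Finset V => IsBig G C ∧ x ∈ C with hS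
  have h1 : ∀ y ∈ (univ : Finset (Far G x)), (S.filter fun C => y.1 ∈ C).card = 2 := fun y _ => by
    rw [← card_big_two hG y, hS, filter_filter]
    simp only [and_assoc]
  have h2 : ∀ C ∈ S, ((univ : Finset (Far G x)).filter fun y => y.1 ∈ C).card = 20 := fun C hC =>
    (big_far hG (mem_filter.1 hC).2.1 (mem_filter.1 hC).2.2).1
  have h3 := sum_card_bipartiteAbove_eq_sum_card_bipartiteBelow (s := S)
    (t := (univ : Finset (Far G x))) (fun (C : Finset V) (y : Far G x) => y.1 ∈ C)
  simp only [bipartiteAbove, bipartiteBelow] at h3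
  rw [sum_congr rfl h1, sum_congr rfl h2, sum_const, sum_const, card_univ, card_far hG] at h3
  simp only [smul_eq_mul] at h3
  omega

/-- There are 22 cocliques of size 21. -/
theorem card_big [DecidablePred (IsBig G)] : (univ.filter (IsBig G)).card = 22 := by
  classical
  have h1 : ∀ x ∈ (univ : Finset V), ((univ.filter (IsBig G)).filter fun C => x ∈ C).card = 6 :=
    fun x _ => by rw [filter_filter]; exact card_big_one hG x
  have h2 : ∀ C ∈ univ.filter (IsBig G), ((univ : Finset V).filter fun x => x ∈ C).card = 21 :=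
    fun C hC => by rw [filter_univ_mem]; exact (mem_filter.1 hC).2.1
  have h3 := sum_card_bipartiteAbove_eq_sum_card_bipartiteBelow (s := univ.filter (IsBig G))
    (t := (univ : Finset V)) (fun (C : Finset V) (x : V) => x ∈ C)
  simp only [bipartiteAbove, bipartiteBelow] at h3
  rw [sum_congr rfl h1, sum_congr rfl h2, sum_const, sum_const, card_univ, hG.card] at h3
  simp only [smul_eq_mul] at h3
  omega

/-- The graph is the block graph of a Steiner system S(3, 6, 22). -/
theorem exists_steiner :
    ∃ B : Set (Finset {C : Finset V // IsBig G C}),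
      Nat.card {C : Finset V // IsBig G C} = 22 ∧ Cfsg.IsSteinerSystem 3 6 B ∧
      Nonempty (G ≃g Cfsg.blockGraph B) := by
  classical
  let blk : V → Finset {C : Finset V // IsBig G C} := fun x => univ.filter fun C => x ∈ C.1
  have hP : Fintype.card {C : Finset V // IsBig G C} = 22 := by
    rw [Fintype.card_subtype, card_big hG]
  have hblk : ∀ x, (blk x).card = 6 := fun x => by
    rw [← card_big_one hG x, ← card_map ⟨Subtype.val, Subtype.val_injective⟩]
    congr 1
    ext C
    simp [blk, and_comm]
  have hint : ∀ x y, x ≠ y → (blk x ∩ blk y).card = if G.Adj x y then 0 else 2 := by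
    intro x y hne
    split_ifs with h
    · rw [card_eq_zero, eq_empty_iff_forall_notMem]
      intro C hC
      simp only [blk, mem_inter, mem_filter, mem_univ, true_and] at hC
      exact C.2.2 x hC.1 y hC.2 h
    · rw [← card_big_two hG (⟨y, hne.symm, h⟩ : Far G x),
        ← card_map ⟨Subtype.val, Subtype.val_injective⟩]
      congr 1
      ext C
      simp [blk]
      tauto
  have huniq : ∀ s : Finset {C : Finset V // IsBig G C}, s.card = 3 → ∀ x y, s ⊆ blk x →
      s ⊆ blk y → x = y := by
    intro s hs x y hx hy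
    by_contra hne
    have := card_le_card (subset_inter hx hy)
    rw [hs, hint x y hne] at this
    split_ifs at this <;> omega
  have hinj : Function.Injective blk := by
    intro x y h
    obtain ⟨s, hs, hs'⟩ := exists_subset_card_eq (s := blk x) (n := 3) (by rw [hblk]; norm_num)
    exact huniq s hs' x y hs (h ▸ hs)
  have hcov : ∀ s : Finset {C : Finset V // IsBig G C}, s.card = 3 → ∃ x, s ⊆ blk x := by
    intro s hs
    have hu : (univ : Finset V).biUnion (fun x => (blk x).powersetCard 3) =
        (univ : Finset {C : Finset V // IsBig G C}).powersetCard 3 := by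
      refine eq_of_subset_of_card_le (fun t ht => ?_) ?_
      · obtain ⟨x, -, ht⟩ := mem_biUnion.1 ht
        exact mem_powersetCard.2 ⟨subset_univ _, (mem_powersetCard.1 ht).2⟩
      · rw [card_powersetCard, card_univ, hP, card_biUnion]
        · rw [sum_congr rfl (fun x _ => by rw [card_powersetCard, hblk]), sum_const, card_univ,
            hG.card]
          decide
        · intro x _ y _ hne
          rw [Function.onFun, Finset.disjoint_left]
          intro t ht ht'
          rw [mem_powersetCard] at ht ht'
          exact hne (huniq t ht.2 x y ht.1 ht'.1)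
    have : s ∈ (univ : Finset V).biUnion (fun x => (blk x).powersetCard 3) := by
      rw [hu]; exact mem_powersetCard.2 ⟨subset_univ _, hs⟩
    obtain ⟨x, -, h⟩ := mem_biUnion.1 this
    exact ⟨x, (mem_powersetCard.1 h).1⟩
  refine ⟨Set.range blk, by rw [Nat.card_eq_fintype_card, hP], ⟨?_, fun s hs => ?_⟩,
    ⟨⟨Equiv.ofInjective blk hinj, fun {x y} => ?_⟩⟩⟩
  · rintro b ⟨x, rfl⟩
    exact hblk x
  · obtain ⟨x, hx⟩ := hcov s hs
    refine ⟨blk x, ⟨⟨x, rfl⟩, hx⟩, ?_⟩
    rintro b ⟨⟨y, rfl⟩, hy⟩
    rw [huniq s hs x y hx hy]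
  · simp only [Cfsg.blockGraph, SimpleGraph.fromRel_adj, ne_eq,
      (Equiv.ofInjective blk hinj).apply_eq_iff_eq]
    simp only [Equiv.ofInjective_apply, disjoint_comm (a := blk y), or_self,
      disjoint_iff_inter_eq_empty, ← card_eq_zero]
    by_cases e : x = y
    · subst e; simp
    · rw [hint x y e]
      split_ifs with h <;> simp [e, h]

end Cfsg.Agent.Srg77
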