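import Cfsg.Agent.EqLemmas

/-!
# Ovoids of a strongly regular graph with parameters (15, 6, 1, 3)

`existsUnique_ovoid`: two non-adjacent vertices lie in exactly one independent set of size five.
-/

set_option autoImplicit false

namespace Cfsg.Agent.Srg77

open Finset

section Quad

variable {W : Type*} [Fintype W] [DecidableEq W] {T : SimpleGraph W} [DecidableRel T.Adj]

/-- The neighbours of `a`. -/
def nb (T : SimpleGraph W) [DecidableRel T.Adj] (a : W) : Finset W := univ.filter (T.Adj a)

omit [DecidableEq W] in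
theorem mem_nb {a u : W} : u ∈ nb T a ↔ T.Adj a u := by simp [nb]

variable (hT : T.IsSRGWith 15 6 1 3)
include hT

theorem card_nb (a : W) : (nb T a).card = 6 := by
  rw [← hT.regular a, ← SimpleGraph.card_neighborFinset_eq_degree]
  congr 1
  ext u
  simp [nb]

theorem card_nb_inter {a b : W} (h : a ≠ b) :
    (nb T a ∩ nb T b).card = if T.Adj a b then 1 else 3 := by
  split_ifs with h1
  · rw [← hT.of_adj a b h1]
    exact (Fintype.card_of_subtype _ fun u => by
      simp [nb, SimpleGraph.mem_commonNeighbors]).symm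
  · rw [← hT.of_not_adj h h1]
    exact (Fintype.card_of_subtype _ fun u => by
      simp [nb, SimpleGraph.mem_commonNeighbors]).symm

/-- A triangle is the only triangle on each of its edges. -/
theorem third_unique {a b c c' : W} (hab : T.Adj a b) (h1 : T.Adj a c) (h2 : T.Adj b c)
    (h3 : T.Adj a c') (h4 : T.Adj b c') : c = c' := by
  have h := card_nb_inter hT hab.ne
  rw [if_pos hab] at h
  obtain ⟨d, hd⟩ := card_eq_one.1 h
  have e1 : c ∈ nb T a ∩ nb T b := by simp [mem_nb, h1, h2]
  have e2 : c' ∈ nb T a ∩ nb T b := by simp [mem_nb, h3, h4]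
  rw [hd, mem_singleton] at e1 e2
  rw [e1, e2]

theorem existsUnique_ovoid {a b : W} (hab : a ≠ b) (hnab : ¬ T.Adj a b) :
    ∃! K : Finset W, K.card = 5 ∧ a ∈ K ∧ b ∈ K ∧ ∀ s ∈ K, ∀ t ∈ K, ¬ T.Adj s t := by
  classical
  set c : Finset W := nb T a ∩ nb T b with hc
  have hc3 : c.card = 3 := by rw [hc, card_nb_inter hT hab, if_neg hnab]
  have hmc : ∀ t, t ∈ c ↔ T.Adj a t ∧ T.Adj b t := fun t => by simp [hc, mem_nb]
  set X : Finset W := univ \ (({a, b} : Finset W) ∪ (nb T a ∪ nb T b)) with hX
  have hmX : ∀ t, t ∈ X ↔ t ≠ a ∧ t ≠ b ∧ ¬ T.Adj a t ∧ ¬ T.Adj b t := fun t => by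
    simp [hX, mem_nb, and_assoc]
  have hX4 : X.card = 4 := by
    rw [hX, card_univ_diff, hT.card, card_union_of_disjoint, card_pair hab]
    · have := card_union_add_card_inter (nb T a) (nb T b)
      rw [card_nb hT, card_nb hT, ← hc, hc3] at this
      omega
    · rw [Finset.disjoint_left]
      intro t ht ht'
      simp only [mem_insert, mem_singleton] at ht
      simp only [mem_union, mem_nb] at ht'
      rcases ht with rfl | rfl <;> rcases ht' with h | h
      · exact h.ne rfl
      · exact hnab h.symm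
      · exact hnab h
      · exact h.ne rfl
  have hcc : ∀ s ∈ c, ∀ t ∈ c, ¬ T.Adj s t := by
    intro s hs t ht h
    rw [hmc] at hs ht
    exact hab (third_unique hT h hs.1.symm ht.1.symm hs.2.symm ht.2.symm)
  -- the number of neighbours in `c` of a point of `X`
  set sv : W → ℕ := fun t => (c ∩ nb T t).card with hsv
  have hdeg : ∀ t ∈ X, (X ∩ nb T t).card = sv t := by
    intro t ht
    rw [hmX] at ht
    have e : nb T t = (X ∩ nb T t) ∪ ((nb T a ∩ nb T t) ∪ (nb T b ∩ nb T t)) := by
      ext u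
      simp only [mem_union, mem_inter, mem_nb, hmX]
      constructor
      · intro hu
        by_cases h1 : T.Adj a u
        · exact Or.inr (Or.inl ⟨h1, hu⟩)
        by_cases h2 : T.Adj b u
        · exact Or.inr (Or.inr ⟨h2, hu⟩)
        exact Or.inl ⟨⟨fun e => ht.2.2.1 (e ▸ hu).symm, fun e => ht.2.2.2 (e ▸ hu).symm, h1, h2⟩, hu⟩
      · tauto
    have e2 := congrArg Finset.card e
    rw [card_nb hT, card_union_of_disjoint] at e2
    · have e3 := card_union_add_card_inter (nb T a ∩ nb T t) (nb T b ∩ nb T t)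
      rw [card_nb_inter hT ht.1.symm, card_nb_inter hT ht.2.1.symm, if_neg ht.2.2.1,
        if_neg ht.2.2.2] at e3
      have e4 : (nb T a ∩ nb T t) ∩ (nb T b ∩ nb T t) = c ∩ nb T t := by
        ext u; simp only [hc, mem_inter]; tauto
      rw [e4] at e3
      simp only [hsv]
      omega
    · rw [Finset.disjoint_left]
      intro u hu hu'
      simp only [mem_inter, hmX, mem_nb] at hu
      simp only [mem_union, mem_inter, mem_nb] at hu'
      tauto
  -- each point of `c` has two neighbours in `X`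
  have hcX : ∀ s ∈ c, (X ∩ nb T s).card = 2 := by
    intro s hs
    have hs' := (hmc s).1 hs
    have e : nb T s = (X ∩ nb T s) ∪ (({a, b} : Finset W) ∪
        ((nb T a ∩ nb T s) ∪ (nb T b ∩ nb T s))) := by
      ext u
      simp only [mem_union, mem_inter, mem_nb, hmX, mem_insert, mem_singleton]
      constructor
      · intro hu
        by_cases h1 : T.Adj a u
        · exact Or.inr (Or.inr (Or.inl ⟨h1, hu⟩))
        by_cases h2 : T.Adj b u
        · exact Or.inr (Or.inr (Or.inr ⟨h2, hu⟩))
        by_cases h3 : u = a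
        · exact Or.inr (Or.inl (Or.inl h3))
        by_cases h4 : u = b
        · exact Or.inr (Or.inl (Or.inr h4))
        exact Or.inl ⟨⟨h3, h4, h1, h2⟩, hu⟩
      · rintro (h | (rfl | rfl) | h | h)
        · exact h.2
        · exact hs'.1.symm
        · exact hs'.2.symm
        · exact h.2
        · exact h.2
    have e2 := congrArg Finset.card e
    rw [card_nb hT, card_union_of_disjoint, card_union_of_disjoint, card_pair hab,
      card_union_of_disjoint, card_nb_inter hT hs'.1.ne, card_nb_inter hT hs'.2.ne,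
      if_pos hs'.1, if_pos hs'.2] at e2
    · omega
    · rw [Finset.disjoint_left]
      intro u hu hu'
      simp only [mem_inter, mem_nb] at hu hu'
      have := hcc s hs u ((hmc u).2 ⟨hu.1, hu'.1⟩)
      exact this hu.2
    · rw [Finset.disjoint_left]
      intro u hu hu'
      simp only [mem_insert, mem_singleton] at hu
      simp only [mem_union, mem_inter, mem_nb] at hu'
      rcases hu with rfl | rfl <;> rcases hu' with h | h
      · exact h.1.ne rfl
      · exact hnab h.1.symm
      · exact hnab h.1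
      · exact h.1.ne rfl
    · rw [Finset.disjoint_left]
      intro u hu hu'
      simp only [mem_inter, hmX, mem_nb] at hu
      simp only [mem_union, mem_inter, mem_nb, mem_insert, mem_singleton] at hu'
      tauto
  -- two points of `c` have exactly one common neighbour in `X`
  have hccX : ∀ s ∈ c, ∀ t ∈ c, s ≠ t → (X ∩ (nb T s ∩ nb T t)).card = 1 := by
    intro s hs t ht hst
    have hs' := (hmc s).1 hs
    have ht' := (hmc t).1 ht
    have e : nb T s ∩ nb T t = ({a, b} : Finset W) ∪ (X ∩ (nb T s ∩ nb T t)) := by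
      ext u
      simp only [mem_union, mem_inter, mem_nb, hmX, mem_insert, mem_singleton]
      constructor
      · intro hu
        by_cases h3 : u = a
        · exact Or.inl (Or.inl h3)
        by_cases h4 : u = b
        · exact Or.inl (Or.inr h4)
        refine Or.inr ⟨⟨h3, h4, fun h1 => hst ?_, fun h2 => hst ?_⟩, hu⟩
        · exact third_unique hT h1 hs'.1 hu.1.symm ht'.1 hu.2.symm
        · exact third_unique hT h2 hs'.2 hu.1.symm ht'.2 hu.2.symm
      · rintro ((rfl | rfl) | h)
        · exact ⟨hs'.1.symm, ht'.1.symm⟩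
        · exact ⟨hs'.2.symm, ht'.2.symm⟩
        · exact h.2
    have e2 := congrArg Finset.card e
    rw [card_nb_inter hT hst, if_neg (hcc s hs t ht), card_union_of_disjoint, card_pair hab] at e2
    · omega
    · rw [Finset.disjoint_left]
      intro u hu hu'
      simp only [mem_insert, mem_singleton] at hu
      simp only [mem_inter, hmX] at hu'
      tauto
  -- some point of `X` is joined to all of `c`
  have hsum : ∑ t ∈ X, sv t = 6 := by
    have e : ∀ t, sv t = ∑ s ∈ c, if T.Adj s t then 1 else 0 := fun t => by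
      rw [hsv, sum_boole]
      simp only [Nat.cast_id]
      congr 1
      ext s
      simp [mem_nb, T.adj_comm]
    rw [sum_congr rfl fun t _ => e t, sum_comm]
    rw [sum_congr rfl fun s hs => ?_, sum_const, hc3]
    rotate_left
    · exact (2 : ℕ)
    · rw [sum_boole, Nat.cast_id, ← hcX s hs]
      congr 1
      ext u
      simp [mem_nb]
    rfl
  have hle : ∀ t, sv t ≤ 3 := fun t => hc3 ▸ card_le_card inter_subset_left
  obtain ⟨x₀, hx₀, hx₀3⟩ : ∃ t ∈ X, sv t = 3 := by
    by_contra hno
    push Not at hno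
    have hle2 : ∀ t ∈ X, sv t ≤ 2 := fun t ht => by
      have := hle t; have := hno t ht; omega
    -- every pair in `c` gives a point of `X` with two neighbours in `c`
    obtain ⟨c₁, c₂, c₃, h12, h13, h23, hc123⟩ := card_eq_three.1 hc3
    have hm1 : c₁ ∈ c := by simp [hc123]
    have hm2 : c₂ ∈ c := by simp [hc123]
    have hm3 : c₃ ∈ c := by simp [hc123]
    obtain ⟨u, hu⟩ := card_eq_one.1 (hccX c₁ hm1 c₂ hm2 h12)
    obtain ⟨v, hv⟩ := card_eq_one.1 (hccX c₁ hm1 c₃ hm3 h13)
    obtain ⟨w, hw⟩ := card_eq_one.1 (hccX c₂ hm2 c₃ hm3 h23)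
    have hu' : u ∈ X ∧ T.Adj c₁ u ∧ T.Adj c₂ u := by
      have : u ∈ X ∩ (nb T c₁ ∩ nb T c₂) := by rw [hu]; exact mem_singleton_self u
      simpa [mem_nb] using this
    have hv' : v ∈ X ∧ T.Adj c₁ v ∧ T.Adj c₃ v := by
      have : v ∈ X ∩ (nb T c₁ ∩ nb T c₃) := by rw [hv]; exact mem_singleton_self v
      simpa [mem_nb] using this
    have hw' : w ∈ X ∧ T.Adj c₂ w ∧ T.Adj c₃ w := by
      have : w ∈ X ∩ (nb T c₂ ∩ nb T c₃) := by rw [hw]; exact mem_singleton_self w
      simpa [mem_nb] using this
    have hall : ∀ t ∈ X, T.Adj c₁ t → T.Adj c₂ t → T.Adj c₃ t → False := by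
      intro t ht a1 a2 a3
      refine hno t ht ?_
      rw [hsv]
      simp only
      rw [inter_eq_left.2, hc3]
      intro s hs
      rw [mem_nb]
      rw [hc123] at hs
      simp only [mem_insert, mem_singleton] at hs
      rcases hs with rfl | rfl | rfl
      exacts [a1.symm, a2.symm, a3.symm]
    have huv : u ≠ v := fun e => hall u hu'.1 hu'.2.1 hu'.2.2 (e ▸ hv'.2.2)
    have huw : u ≠ w := fun e => hall u hu'.1 hu'.2.1 hu'.2.2 (e ▸ hw'.2.2)
    have hvw : v ≠ w := fun e => hall v hv'.1 hv'.2.1 (e ▸ hw'.2.1) hv'.2.2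
    have htwo : ∀ t s s', t ∈ X → s ∈ c → s' ∈ c → s ≠ s' → T.Adj s t → T.Adj s' t → sv t = 2 := by
      intro t s s' ht hs hs' hne h h'
      refine le_antisymm (hle2 t ht) ?_
      rw [← card_pair hne]
      refine card_le_card fun r hr => ?_
      simp only [mem_insert, mem_singleton] at hr
      rcases hr with rfl | rfl
      · simp [hs, mem_nb, h.symm]
      · simp [hs', mem_nb, h'.symm]
    have su := htwo u c₁ c₂ hu'.1 hm1 hm2 h12 hu'.2.1 hu'.2.2
    have svv := htwo v c₁ c₃ hv'.1 hm1 hm3 h13 hv'.2.1 hv'.2.2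
    have sw := htwo w c₂ c₃ hw'.1 hm2 hm3 h23 hw'.2.1 hw'.2.2
    have hsub : ({u, v, w} : Finset W) ⊆ X := by
      simp [insert_subset_iff, hu'.1, hv'.1, hw'.1]
    have h3c : ({u, v, w} : Finset W).card = 3 := card_eq_three.2 ⟨u, v, w, huv, huw, hvw, rfl⟩
    obtain ⟨z, hz⟩ := card_eq_one.1 (by rw [card_sdiff_of_subset hsub, hX4, h3c] :
      (X \ {u, v, w}).card = 1)
    have hz0 : sv z = 0 := by
      have := sum_sdiff hsub (f := sv)
      rw [hz, sum_singleton, sum_insert (by simp [huv, huw]), sum_pair hvw, su, svv, sw, hsum]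
        at this
      omega
    have hzX : z ∈ X := (mem_sdiff.1 (hz ▸ mem_singleton_self z)).1
    have hzno : ∀ t ∈ X, ¬ T.Adj z t := by
      intro t ht h
      have h0 := hdeg z hzX
      rw [hz0, card_eq_zero] at h0
      exact notMem_empty t (h0 ▸ mem_inter.2 ⟨ht, mem_nb.2 h⟩)
    have tri : ∀ t, t ∈ ({u, v, w} : Finset W) → ∀ t' ∈ ({u, v, w} : Finset W), t ≠ t' →
        T.Adj t t' := by
      intro t ht t' ht' hne
      have h0 := hdeg t (hsub ht)
      have hs2 : sv t = 2 := by
        simp only [mem_insert, mem_singleton] at ht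
        rcases ht with rfl | rfl | rfl
        exacts [su, svv, sw]
      have hss : X ∩ nb T t ⊆ ({u, v, w} : Finset W).erase t := by
        intro r hr
        rw [mem_inter, mem_nb] at hr
        refine mem_erase.2 ⟨hr.2.ne.symm, ?_⟩
        by_contra hr'
        have : r ∈ ({z} : Finset W) := hz ▸ mem_sdiff.2 ⟨hr.1, hr'⟩
        rw [mem_singleton] at this
        exact hzno t (hsub ht) (this ▸ hr.2).symm
      have := eq_of_subset_of_card_le hss (by rw [h0, hs2, card_erase_of_mem ht, h3c])
      have h5 : t' ∈ X ∩ nb T t := this ▸ mem_erase.2 ⟨hne.symm, ht'⟩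
      exact mem_nb.1 (mem_inter.1 h5).2
    have auv := tri u (by simp) v (by simp) huv
    have auw := tri u (by simp) w (by simp) huw
    have avw := tri v (by simp) w (by simp) hvw
    have e := third_unique hT auv hu'.2.1.symm hv'.2.1.symm auw avw
    exact (hmX w).1 hw'.1 |>.2.2.1 (e ▸ ((hmc c₁).1 hm1).1)
  have hx₀c : ∀ s ∈ c, T.Adj x₀ s := by
    intro s hs
    have h : c ∩ nb T x₀ = c := eq_of_subset_of_card_le inter_subset_left (by
      rw [hc3]; exact hx₀3.ge)
    exact mem_nb.1 (mem_inter.1 (h.symm ▸ hs : s ∈ c ∩ nb T x₀)).2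
  have hx₀X : ∀ t ∈ X.erase x₀, T.Adj x₀ t := by
    intro t ht
    have hss : X ∩ nb T x₀ ⊆ X.erase x₀ := fun r hr => by
      rw [mem_inter, mem_nb] at hr
      exact mem_erase.2 ⟨hr.2.ne.symm, hr.1⟩
    have := eq_of_subset_of_card_le hss (by
      rw [hdeg x₀ hx₀, hx₀3, card_erase_of_mem hx₀, hX4])
    exact mem_nb.1 (mem_inter.1 (this.symm ▸ ht : t ∈ X ∩ nb T x₀)).2
  have hind : ∀ s ∈ X.erase x₀, ∀ t ∈ X.erase x₀, ¬ T.Adj s t := by
    intro s hs t ht hst
    have hsX := (mem_erase.1 hs).2
    have h1 : (({x₀, t} : Finset W)) ⊆ X ∩ nb T s := by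
      intro r hr
      simp only [mem_insert, mem_singleton] at hr
      rcases hr with rfl | rfl
      · exact mem_inter.2 ⟨hx₀, mem_nb.2 (hx₀X s hs).symm⟩
      · exact mem_inter.2 ⟨(mem_erase.1 ht).2, mem_nb.2 hst⟩
    have h2 := card_le_card h1
    rw [card_pair (mem_erase.1 ht).1.symm, hdeg s hsX] at h2
    obtain ⟨p, hp, q, hq, hpq⟩ := one_lt_card.1 (show 1 < (c ∩ nb T s).card from h2)
    rw [mem_inter, mem_nb] at hp hq
    have := hccX p hp.1 q hq.1 hpq
    obtain ⟨d, hd⟩ := card_eq_one.1 this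
    have e1 : s ∈ ({d} : Finset W) := hd ▸ (by simp [hsX, mem_nb, hp.2.symm, hq.2.symm])
    have e2 : x₀ ∈ ({d} : Finset W) := hd ▸ (by
      simp [hx₀, mem_nb, (hx₀c p hp.1).symm, (hx₀c q hq.1).symm])
    rw [mem_singleton] at e1 e2
    exact (mem_erase.1 hs).1 (e1.trans e2.symm)
  have hK5 : (insert a (insert b (X.erase x₀))).card = 5 := by
    rw [card_insert_of_notMem, card_insert_of_notMem, card_erase_of_mem hx₀, hX4]
    · exact fun h => ((hmX b).1 (mem_erase.1 h).2).2.1 rfl
    · intro h
      rcases mem_insert.1 h with h | h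
      · exact hab h
      · exact ((hmX a).1 (mem_erase.1 h).2).1 rfl
  refine ⟨insert a (insert b (X.erase x₀)), ⟨hK5, by simp, by simp, ?_⟩, ?_⟩
  · intro s hs t ht
    simp only [mem_insert] at hs ht
    have ha : ∀ r ∈ X.erase x₀, ¬ T.Adj a r ∧ ¬ T.Adj b r := fun r hr =>
      ⟨((hmX r).1 (mem_erase.1 hr).2).2.2.1, ((hmX r).1 (mem_erase.1 hr).2).2.2.2⟩
    rcases hs with rfl | rfl | hs <;> rcases ht with rfl | rfl | ht
    · exact T.loopless.irrefl _
    · exact hnab
    · exact (ha t ht).1
    · exact fun h => hnab h.symm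
    · exact T.loopless.irrefl _
    · exact (ha t ht).2
    · exact fun h => (ha s hs).1 h.symm
    · exact fun h => (ha s hs).2 h.symm
    · exact hind s hs t ht
  · rintro K ⟨hK, haK, hbK, hKi⟩
    have hsub : (K.erase a).erase b ⊆ X := by
      intro t ht
      simp only [mem_erase] at ht
      exact (hmX t).2 ⟨ht.2.1, ht.1, hKi a haK t ht.2.2, hKi b hbK t ht.2.2⟩
    have hc3' : ((K.erase a).erase b).card = 3 := by
      rw [card_erase_of_mem (mem_erase.2 ⟨hab.symm, hbK⟩), card_erase_of_mem haK, hK]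
    have hx : x₀ ∉ K := by
      intro hx
      have hsub' : (((K.erase a).erase b).erase x₀) ⊆ X.erase x₀ := erase_subset_erase _ hsub
      obtain ⟨t, ht⟩ := card_pos.1 (show 0 < (((K.erase a).erase b).erase x₀).card by
        have := pred_card_le_card_erase (s := (K.erase a).erase b) (a := x₀); omega)
      exact hKi x₀ hx t (mem_of_mem_erase (mem_of_mem_erase (mem_of_mem_erase ht)))
        (hx₀X t (hsub' ht))
    symm
    refine eq_of_subset_of_card_le ?_ (by rw [hK5, hK])
    have hsub' : (K.erase a).erase b ⊆ X.erase x₀ := fun t ht =>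
      mem_erase.2 ⟨fun e => hx (e ▸ mem_of_mem_erase (mem_of_mem_erase ht)), hsub ht⟩
    have := eq_of_subset_of_card_le hsub' (by rw [card_erase_of_mem hx₀, hX4, hc3'])
    intro t ht
    simp only [mem_insert] at ht
    rcases ht with rfl | rfl | ht
    · exact haK
    · exact hbK
    · exact mem_of_mem_erase (mem_of_mem_erase (this.symm ▸ ht : t ∈ (K.erase a).erase b))

end Quad

end Cfsg.Agent.Srg77
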