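import Cfsg.Agent.EqLemmas
import Cfsg.Agent.Lib.Srg77.Quad

/-!
# The second subconstituent of a strongly regular graph with parameters (77, 16, 0, 4)

For a vertex `x` the 60 far vertices fall into 15 classes of four; the classes carry a strongly
regular graph with parameters (15, 6, 1, 3).
-/

set_option autoImplicit false

namespace Cfsg.Agent.Srg77

open Finset

variable {V : Type*} [Fintype V] [DecidableEq V]

section Local

variable (G : SimpleGraph V) [DecidableRel G.Adj]

/-- Common neighbours. -/
def com (v w : V) : Finset V := univ.filter fun u => G.Adj v u ∧ G.Adj w u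

/-- The vertices at distance two from `x`. -/
abbrev Far (x : V) : Type _ := {u : V // u ≠ x ∧ ¬ G.Adj x u}

variable {G}

theorem mem_com {v w u : V} : u ∈ com G v w ↔ G.Adj v u ∧ G.Adj w u := by simp [com]

theorem sum_far {x : V} (f : V → ℤ) :
    ∑ t : Far G x, f t = ∑ t ∈ univ.filter (fun u => u ≠ x ∧ ¬ G.Adj x u), f t :=
  (sum_subtype _ (fun u => by simp) f).symm

variable (hG : G.IsSRGWith 77 16 0 4)
include hG

theorem card_nbr (v : V) : (univ.filter fun u => G.Adj v u).card = 16 := by
  rw [← hG.regular v, ← SimpleGraph.card_neighborFinset_eq_degree]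
  congr 1
  ext u
  simp

theorem card_com (v w : V) :
    (com G v w).card = if v = w then 16 else if G.Adj v w then 0 else 4 := by
  split_ifs with h1 h2
  · subst h1
    rw [← card_nbr hG v]
    congr 1
    ext u
    simp [com]
  · rw [← hG.of_adj v w h2]
    exact (Fintype.card_of_subtype _ fun u => by
      simp [mem_com, SimpleGraph.mem_commonNeighbors]).symm
  · rw [← hG.of_not_adj h1 h2]
    exact (Fintype.card_of_subtype _ fun u => by
      simp [mem_com, SimpleGraph.mem_commonNeighbors]).symm

theorem not_adj_of_common {v p q : V} (hp : G.Adj v p) (hq : G.Adj v q) : ¬ G.Adj p q := by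
  intro h
  have h1 := card_com hG p q
  rw [if_neg h.ne, if_pos h] at h1
  exact notMem_empty v ((card_eq_zero.1 h1) ▸ mem_com.2 ⟨hp.symm, hq.symm⟩)

end Local

section Defs

variable (G : SimpleGraph V) [DecidableRel G.Adj] {x : V}

/-- Adjacency as an integer. -/
def adj (u t : Far G x) : ℤ := if G.Adj u.1 t.1 then 1 else 0

/-- The number of common neighbours of two far vertices next to `x`. -/
def kk (u t : Far G x) : ℤ := ((com G x u.1 ∩ com G x t.1).card : ℤ)

/-- The rank six Gram form on the far vertices. -/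
def gram (u t : Far G x) : ℤ := 2 + (if u = t then 4 else 0) - 2 * adj G u t - kk G u t

end Defs

variable {G : SimpleGraph V} [DecidableRel G.Adj] {x : V}

theorem adj_comm' (u t : Far G x) : adj G u t = adj G t u := by simp [adj, G.adj_comm]

theorem kk_comm (u t : Far G x) : kk G u t = kk G t u := by simp [kk, inter_comm]

theorem gram_comm (u t : Far G x) : gram G u t = gram G t u := by
  simp [gram, adj_comm' u t, kk_comm u t, eq_comm]

theorem kk_eq_sum (u t : Far G x) :
    kk G u t = ∑ p ∈ com G x u.1, if G.Adj t.1 p then (1 : ℤ) else 0 := by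
  rw [kk, sum_boole]
  congr 2
  ext p
  simp only [mem_inter, mem_com, mem_filter]
  tauto

variable (hG : G.IsSRGWith 77 16 0 4)
include hG

theorem card_blk (u : Far G x) : (com G x u.1).card = 4 := by
  rw [card_com hG, if_neg u.2.1.symm, if_neg u.2.2]

theorem card_far : Fintype.card (Far G x) = 60 := by
  rw [Fintype.card_subtype]
  have h : (univ : Finset V) = (univ.filter fun u => u ≠ x ∧ ¬ G.Adj x u) ∪
      insert x (univ.filter fun u => G.Adj x u) := by
    ext u
    by_cases e : u = x <;> by_cases e' : G.Adj x u <;> simp [e, e']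
  have h2 := congrArg Finset.card h
  rw [card_union_of_disjoint, card_insert_of_notMem (by simp), card_nbr hG, card_univ, hG.card]
    at h2
  · omega
  · rw [Finset.disjoint_left]
    intro u hu hu'
    simp at hu hu'
    tauto

/-- Far neighbours of a neighbour of `x` and a second vertex `q`. -/
theorem sum_far_two {p q : V} (hp : G.Adj x p) :
    (∑ t : Far G x, (if G.Adj p t.1 ∧ G.Adj q t.1 then (1 : ℤ) else 0)) =
      (if p = q then 15 else if G.Adj p q then 0 else if G.Adj x q then 3 else 4) := by
  rw [sum_far (fun t => if G.Adj p t ∧ G.Adj q t then (1 : ℤ) else 0), sum_boole, filter_filter]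
  have e : (univ.filter fun t => (t ≠ x ∧ ¬ G.Adj x t) ∧ G.Adj p t ∧ G.Adj q t) =
      (com G p q).erase x := by
    ext t
    simp only [mem_filter, mem_univ, true_and, mem_erase, mem_com]
    exact ⟨fun h => ⟨h.1.1, h.2⟩, fun h => ⟨⟨h.1, fun ht => not_adj_of_common hG hp ht h.2.1⟩, h.2⟩⟩
  rw [e]
  by_cases h1 : p = q
  · subst h1
    rw [if_pos rfl, card_erase_of_mem (mem_com.2 ⟨hp.symm, hp.symm⟩), card_com hG, if_pos rfl]
    rfl
  rw [if_neg h1]
  by_cases h2 : G.Adj p q
  · rw [if_pos h2]
    have : com G p q = ∅ := card_eq_zero.1 (by rw [card_com hG, if_neg h1, if_pos h2])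
    simp [this]
  rw [if_neg h2]
  by_cases h3 : G.Adj x q
  · rw [if_pos h3, card_erase_of_mem (mem_com.2 ⟨hp.symm, h3.symm⟩), card_com hG, if_neg h1,
      if_neg h2]
    rfl
  · rw [if_neg h3, erase_eq_of_notMem (fun h => h3 (mem_com.1 h).2.symm), card_com hG, if_neg h1,
      if_neg h2]
    rfl

theorem sum_far_one {p : V} (hp : G.Adj x p) :
    (∑ t : Far G x, (if G.Adj t.1 p then (1 : ℤ) else 0)) = 15 := by
  have := sum_far_two hG hp (q := p)
  rw [if_pos rfl] at this
  rw [← this]
  exact sum_congr rfl fun t _ => by simp [G.adj_comm]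

theorem sum_adj (u : Far G x) : ∑ t, adj G u t = 12 := by
  simp only [adj]
  rw [sum_far (fun t => if G.Adj u.1 t then (1 : ℤ) else 0), sum_boole, filter_filter]
  have h : (univ.filter fun t => G.Adj u.1 t) =
      (univ.filter fun t => (t ≠ x ∧ ¬ G.Adj x t) ∧ G.Adj u.1 t) ∪ com G x u.1 := by
    ext t
    simp only [mem_filter, mem_univ, true_and, mem_union, mem_com]
    constructor
    · intro ht
      by_cases h : G.Adj x t
      · exact Or.inr ⟨h, ht⟩
      · exact Or.inl ⟨⟨fun e => u.2.2 (e ▸ ht).symm, h⟩, ht⟩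
    · tauto
  have h2 := congrArg Finset.card h
  rw [card_nbr hG, card_union_of_disjoint, card_blk hG] at h2
  · omega
  · rw [Finset.disjoint_left]
    intro t ht ht'
    simp [mem_com] at ht ht'
    tauto

theorem sum_adj_adj (u v : Far G x) :
    ∑ t, adj G u t * adj G v t =
      (if u = v then 12 else 0) + 4 - 4 * adj G u v - kk G u v := by
  have e : ∀ t : Far G x, adj G u t * adj G v t =
      if G.Adj u.1 t.1 ∧ G.Adj v.1 t.1 then (1 : ℤ) else 0 := fun t => by
    simp only [adj]; split_ifs <;> simp_all
  rw [sum_congr rfl fun t _ => e t,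
    sum_far (fun t => if G.Adj u.1 t ∧ G.Adj v.1 t then (1 : ℤ) else 0), sum_boole, filter_filter]
  have h : com G u.1 v.1 = (univ.filter fun t => (t ≠ x ∧ ¬ G.Adj x t) ∧ G.Adj u.1 t ∧ G.Adj v.1 t) ∪
      (com G x u.1 ∩ com G x v.1) := by
    ext t
    simp only [mem_filter, mem_univ, true_and, mem_union, mem_com, mem_inter]
    constructor
    · intro ht
      by_cases h : G.Adj x t
      · exact Or.inr ⟨⟨h, ht.1⟩, h, ht.2⟩
      · exact Or.inl ⟨⟨fun e => u.2.2 (e ▸ ht.1).symm, h⟩, ht⟩
    · tauto
  have h2 := congrArg Finset.card h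
  rw [card_union_of_disjoint, card_com hG] at h2
  · simp only [adj, kk, Subtype.coe_inj] at *
    split_ifs at * with h3 h4 <;> first
      | omega
      | (subst h3; exact absurd h4 (G.loopless.irrefl _))
  · rw [Finset.disjoint_left]
    intro t ht ht'
    simp [mem_com] at ht ht'
    tauto

theorem sum_kk (u : Far G x) : ∑ t, kk G u t = 60 := by
  simp only [kk_eq_sum]
  rw [sum_comm, sum_congr rfl fun p hp => sum_far_one hG (mem_com.1 hp).1, sum_const, card_blk hG]
  rfl

theorem sum_adj_kk (u v : Far G x) : ∑ t, adj G u t * kk G v t = 16 - 4 * kk G u v := by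
  simp only [kk_eq_sum v, mul_sum]
  rw [sum_comm]
  have e : ∀ p ∈ com G x v.1, (∑ t : Far G x, adj G u t * if G.Adj t.1 p then (1 : ℤ) else 0) =
      4 - 4 * (if G.Adj u.1 p then (1 : ℤ) else 0) := by
    intro p hp
    have hp' := (mem_com.1 hp).1
    have h := sum_far_two hG hp' (q := u.1)
    rw [if_neg (fun e => u.2.2 (by rw [← e]; exact hp')), if_neg u.2.2] at h
    rw [show (4 : ℤ) - 4 * (if G.Adj u.1 p then (1 : ℤ) else 0) =
      (if G.Adj p u.1 then (0 : ℤ) else 4) by simp [G.adj_comm p]; split_ifs <;> norm_num, ← h]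
    exact sum_congr rfl fun t _ => by
      simp only [adj, G.adj_comm p]
      split_ifs <;> simp_all
  rw [sum_congr rfl e, sum_sub_distrib, sum_const, card_blk hG, ← mul_sum, ← kk_eq_sum v u,
    kk_comm v u]
  rfl

theorem sum_kk_kk (u v : Far G x) : ∑ t, kk G u t * kk G v t = 12 * kk G u v + 48 := by
  simp only [kk_eq_sum, sum_mul, mul_sum]
  rw [sum_comm]
  have e : ∀ p ∈ com G x u.1, ∀ q ∈ com G x v.1,
      (∑ t : Far G x, (if G.Adj t.1 p then (1 : ℤ) else 0) * (if G.Adj t.1 q then (1 : ℤ) else 0)) =
        12 * (if p = q then (1 : ℤ) else 0) + 3 := by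
    intro p hp q hq
    have hp' := (mem_com.1 hp).1
    have hq' := (mem_com.1 hq).1
    have h := sum_far_two hG hp' (q := q)
    rw [if_pos hq', if_neg (not_adj_of_common hG hp' hq')] at h
    rw [show 12 * (if p = q then (1 : ℤ) else 0) + 3 = (if p = q then (15 : ℤ) else 3) by
      split_ifs <;> norm_num, ← h]
    exact sum_congr rfl fun t _ => by simp only [G.adj_comm t.1]; split_ifs <;> simp_all
  rw [sum_congr rfl fun q hq => (sum_comm.trans (sum_congr rfl fun p hp => e p hp q hq))]
  simp only [sum_add_distrib, ← mul_sum, sum_const, card_blk hG, sum_ite_eq']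
  rw [← kk_eq_sum, sum_boole, filter_mem_eq_inter, inter_comm, ← kk]
  simp

theorem sum_gram (u : Far G x) : ∑ t, gram G u t = 40 := by
  simp only [gram, sum_add_distrib, sum_sub_distrib, ← mul_sum, sum_ite_eq, mem_univ, if_true,
    sum_const, card_univ, card_far hG, sum_adj hG, sum_kk hG]
  norm_num

theorem sum_gram_gram (u v : Far G x) :
    ∑ t, gram G u t * gram G v t = 16 * gram G u v + 16 := by
  have h1 : ∀ f : Far G x → ℤ, ∀ w, ∑ t, f t * (if w = t then (4 : ℤ) else 0) = f w * 4 :=
    fun f w => by simp [mul_ite]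
  have e : ∀ t, gram G u t * gram G v t =
      4 + 2 * (if v = t then (4 : ℤ) else 0) - 4 * adj G v t - 2 * kk G v t
      + 2 * (if u = t then (4 : ℤ) else 0) - 4 * adj G u t - 2 * kk G u t
      + (if v = t then (4 : ℤ) else 0) * (if u = t then (4 : ℤ) else 0)
      - 2 * (adj G v t * (if u = t then (4 : ℤ) else 0)) - (kk G v t * (if u = t then (4 : ℤ) else 0))
      - 2 * (adj G u t * (if v = t then (4 : ℤ) else 0)) - (kk G u t * (if v = t then (4 : ℤ) else 0))
      + 4 * (adj G u t * adj G v t) + 2 * (adj G u t * kk G v t) + 2 * (adj G v t * kk G u t)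
      + kk G u t * kk G v t := fun t => by simp only [gram]; ring
  rw [sum_congr rfl fun t _ => e t]
  simp only [sum_add_distrib, sum_sub_distrib, ← mul_sum, h1, sum_const, card_univ, card_far hG,
    sum_adj hG, sum_kk hG, sum_adj_adj hG, sum_adj_kk hG, sum_kk_kk hG]
  simp only [sum_ite_eq, mem_univ, if_true, kk_comm v u, adj_comm' v u, gram]
  by_cases h : u = v
  · subst h; simp; ring
  · simp [h, Ne.symm h]; ring

theorem gram_self (u : Far G x) : gram G u u = 2 := by
  simp [gram, adj, kk, card_blk hG]

theorem sum_sq (u v : Far G x) (c : ℤ) :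
    ∑ t, ((3 * gram G u t - 2) + c * (3 * gram G v t - 2)) ^ 2 =
      192 * (1 + c ^ 2) + 2 * c * (144 * gram G u v - 96) := by
  have e : ∀ t, ((3 * gram G u t - 2) + c * (3 * gram G v t - 2)) ^ 2 =
      9 * (gram G u t * gram G u t) + (9 * c ^ 2) * (gram G v t * gram G v t)
      + (18 * c) * (gram G u t * gram G v t)
      - (12 + 12 * c) * gram G u t - (12 * c ^ 2 + 12 * c) * gram G v t + (4 * (1 + c) ^ 2) :=
    fun t => by ring
  rw [sum_congr rfl fun t _ => e t]
  simp only [sum_add_distrib, sum_sub_distrib, ← mul_sum, sum_gram hG, sum_gram_gram hG,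
    gram_self hG, sum_const, card_univ, card_far hG]
  ring

theorem gram_nonneg (u v : Far G x) : 0 ≤ gram G u v := by
  have h : (0 : ℤ) ≤ _ := sum_nonneg fun t (_ : t ∈ (univ : Finset (Far G x))) =>
    sq_nonneg ((3 * gram G u t - 2) + 1 * (3 * gram G v t - 2))
  rw [sum_sq hG] at h
  omega

theorem gram_le_two (u v : Far G x) : gram G u v ≤ 2 := by
  have h : (0 : ℤ) ≤ _ := sum_nonneg fun t (_ : t ∈ (univ : Finset (Far G x))) =>
    sq_nonneg ((3 * gram G u t - 2) + (-1) * (3 * gram G v t - 2))
  rw [sum_sq hG] at h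
  omega

/-- Rows agree on a class. -/
theorem gram_row_eq {u v : Far G x} (h : gram G u v = 2) (t : Far G x) :
    gram G u t = gram G v t := by
  have h0 := sum_sq hG u v (-1)
  rw [h] at h0
  norm_num at h0
  have := (sum_eq_zero_iff_of_nonneg fun t _ => sq_nonneg _).1 h0 t (mem_univ t)
  have h2 := (sq_eq_zero_iff).1 this
  omega

theorem gram_zero_of_adj {u v : Far G x} (h : G.Adj u.1 v.1) : gram G u v = 0 := by
  have h0 : com G x u.1 ∩ com G x v.1 = ∅ := by
    rw [eq_empty_iff_forall_notMem]
    intro p hp
    simp only [mem_inter, mem_com] at hp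
    exact not_adj_of_common hG hp.1.2.symm hp.2.2.symm h
  simp [gram, adj, kk, h, h0]
  exact fun e => h.ne (congrArg Subtype.val e)


/-- The indicator of a class. -/
theorem ind_two (u t : Far G x) :
    (if gram G u t = 2 then (1 : ℤ) else 0) * 2 = gram G u t * gram G u t - gram G u t := by
  have h1 := gram_nonneg hG u t
  have h2 := gram_le_two hG u t
  interval_cases h : gram G u t <;> simp

theorem sum_two (u : Far G x) : ∑ t, (if gram G u t = 2 then (1 : ℤ) else 0) = 4 := by
  have h : ∑ t, (if gram G u t = 2 then (1 : ℤ) else 0) * 2 = 8 := by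
    rw [sum_congr rfl fun t _ => ind_two hG u t, sum_sub_distrib, sum_gram hG, sum_gram_gram hG,
      gram_self hG]
    norm_num
  rw [← sum_mul] at h
  omega

theorem card_two (u : Far G x) : (univ.filter fun t => gram G u t = 2).card = 4 := by
  have := sum_two hG u
  rw [sum_boole] at this
  exact_mod_cast this

theorem card_one (u : Far G x) : (univ.filter fun t => gram G u t = 1).card = 32 := by
  have h : ∀ t, gram G u t = (if gram G u t = 1 then (1 : ℤ) else 0) +
      2 * (if gram G u t = 2 then (1 : ℤ) else 0) := fun t => by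
    have h1 := gram_nonneg hG u t
    have h2 := gram_le_two hG u t
    interval_cases h : gram G u t <;> simp
  have e := sum_gram hG u
  rw [sum_congr rfl fun t _ => h t, sum_add_distrib, ← mul_sum, sum_two hG, sum_boole] at e
  omega

theorem card_zero_zero (u v : Far G x) :
    ((univ.filter fun t => gram G u t = 0 ∧ gram G v t = 0).card : ℤ) =
      4 + 8 * gram G u v + 4 * (if gram G u v = 2 then (1 : ℤ) else 0) := by
  have h0 : ∀ w t : Far G x, (if gram G w t = 0 then (1 : ℤ) else 0) =
      1 - gram G w t + (if gram G w t = 2 then (1 : ℤ) else 0) := fun w t => by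
    have h1 := gram_nonneg hG w t
    have h2 := gram_le_two hG w t
    interval_cases h : gram G w t <;> simp
  have e : ∀ t, (if gram G u t = 0 ∧ gram G v t = 0 then (1 : ℤ) else 0) =
      1 - gram G v t + (if gram G v t = 2 then (1 : ℤ) else 0) - gram G u t
        + gram G u t * gram G v t + (if gram G u t = 2 then (1 : ℤ) else 0)
        - (if gram G v t = 2 then gram G u v else 0) - (if gram G u t = 2 then gram G u v else 0)
        + (if gram G v t = 2 then (if gram G u v = 2 then (1 : ℤ) else 0) else 0) := by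
    intro t
    rw [show (if gram G u t = 0 ∧ gram G v t = 0 then (1 : ℤ) else 0) =
      (if gram G u t = 0 then (1 : ℤ) else 0) * (if gram G v t = 0 then (1 : ℤ) else 0) by
      split_ifs <;> simp_all, h0, h0]
    have a : (if gram G v t = 2 then gram G u v else 0) =
        gram G u t * (if gram G v t = 2 then (1 : ℤ) else 0) := by
      split_ifs with h
      · rw [gram_comm u v, gram_row_eq hG h u, gram_comm t u, mul_one]
      · simp
    have b : (if gram G u t = 2 then gram G u v else 0) =
        gram G v t * (if gram G u t = 2 then (1 : ℤ) else 0) := by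
      split_ifs with h
      · rw [gram_row_eq hG h v, gram_comm t v, mul_one]
      · simp
    have c : (if gram G v t = 2 then (if gram G u v = 2 then (1 : ℤ) else 0) else 0) =
        (if gram G u t = 2 then (1 : ℤ) else 0) * (if gram G v t = 2 then (1 : ℤ) else 0) := by
      by_cases h : gram G v t = 2
      · simp [h, gram_comm u v, gram_row_eq hG h u, gram_comm t u]
      · simp [h]
    rw [a, b, c]
    ring
  have e2 := sum_congr (s₁ := (univ : Finset (Far G x))) rfl fun t _ => e t
  rw [sum_boole] at e2
  rw [e2]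
  have h2 : ∀ (w : Far G x) (c : ℤ), ∑ t, (if gram G w t = 2 then c else 0) = 4 * c := fun w c => by
    rw [← sum_filter, sum_const, card_two hG]; simp
  simp only [sum_add_distrib, sum_sub_distrib, h2, sum_gram hG, sum_gram_gram hG, sum_const,
    card_univ, card_far hG]
  ring

end Cfsg.Agent.Srg77
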